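import Mathlib
import Groth.Agent.Hensel.Newton
import Groth.Agent.Hensel.PairBasic
import Groth.Agent.GreenbergLib.Basic

/-!
# Elkik's approximation lemma for algebras étale away from a closed set
-/

set_option autoImplicit false
set_option linter.style.haveILetI false

universe u

open MvPolynomial

namespace Groth.Agent.H1Elkik

variable {R : Type u} [CommRing R] {m r : ℕ}

/-- The ideal of the relations. -/
noncomputable def rel (f : Fin r → MvPolynomial (Fin m) R) : Ideal (MvPolynomial (Fin m) R) :=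
  Ideal.span (Set.range f)

/-- `e` is an Elkik element for the relations `f`. -/
def Good (f : Fin r → MvPolynomial (Fin m) R) (e : R) : Prop :=
  ∃ U : Fin m → Fin r → MvPolynomial (Fin m) R,
    (∀ i k, (if i = k then C e else 0) - ∑ j, U i j * pderiv k (f j) ∈ rel f) ∧
    ∀ j, C e ^ 2 * f j ∈ Ideal.span (Set.range fun i => ∑ j', U i j' * f j') ⊔ rel f ^ 2

theorem Good.map {S : Type u} [CommRing S] (φ : R →+* S) {f : Fin r → MvPolynomial (Fin m) R} {e : R}
    (h : Good f e) : Good (fun j => MvPolynomial.map φ (f j)) (φ e) := by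
  obtain ⟨U, h1, h2⟩ := h
  have hrel : (rel f).map (MvPolynomial.map φ) = rel (fun j => MvPolynomial.map φ (f j)) := by
    rw [rel, rel, Ideal.map_span, ← Set.range_comp]; rfl
  refine ⟨fun i j => MvPolynomial.map φ (U i j), fun i k => ?_, fun j => ?_⟩
  · have h3 := Ideal.mem_map_of_mem (MvPolynomial.map φ) (h1 i k)
    rw [hrel, map_sub, map_sum] at h3
    simp only [map_mul, apply_ite (MvPolynomial.map φ), map_C, map_zero, ← pderiv_map] at h3
    exact h3
  · have h3 := Ideal.mem_map_of_mem (MvPolynomial.map φ) (h2 j)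
    rw [Ideal.map_sup, Ideal.map_pow, hrel, Ideal.map_span, ← Set.range_comp, map_mul, map_pow, map_C] at h3
    simp only [Function.comp_def, map_sum, map_mul] at h3
    exact h3

theorem eval_mem_of_mem_rel {f : Fin r → MvPolynomial (Fin m) R} (a : Fin m → R) {p : MvPolynomial (Fin m) R}
    (hp : p ∈ rel f) : eval a p ∈ Ideal.span (Set.range fun j => eval a (f j)) := by
  have := Ideal.mem_map_of_mem (eval a) hp
  rwa [rel, Ideal.map_span, ← Set.range_comp] at this

theorem pderiv_sum_mul (f : Fin r → MvPolynomial (Fin m) R) (U : Fin r → MvPolynomial (Fin m) R) (k : Fin m) :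
    pderiv k (∑ j, U j * f j) - ∑ j, U j * pderiv k (f j) ∈ rel f := by
  rw [map_sum, ← Finset.sum_sub_distrib]
  refine sum_mem fun j _ => ?_
  rw [pderiv_mul, add_sub_cancel_right]
  exact Ideal.mul_mem_left _ _ (Ideal.subset_span ⟨j, rfl⟩)

/-- Quadratic polynomials have no linear part. -/
theorem eval_zero_pderiv_of_mem_sq {p : MvPolynomial (Fin m) R}
    (hp : p ∈ Ideal.span (Set.range (X : Fin m → MvPolynomial (Fin m) R)) ^ 2) (k : Fin m) :
    eval (fun _ => 0) (pderiv k p) = 0 := by
  have h0 : ∀ x ∈ Ideal.span (Set.range (X : Fin m → MvPolynomial (Fin m) R)), eval (fun _ => (0 : R)) x = 0 := by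
    intro x hx
    have : Ideal.span (Set.range (X : Fin m → MvPolynomial (Fin m) R)) ≤ RingHom.ker (eval fun _ => (0 : R)) :=
      Ideal.span_le.2 (by rintro _ ⟨i, rfl⟩; simp)
    exact this hx
  rw [pow_two] at hp
  induction hp using Submodule.mul_induction_on' with
  | mem_mul_mem x hx y hy => rw [pderiv_mul, map_add, map_mul, map_mul, h0 x hx, h0 y hy]; simp
  | add x _ y _ hx hy => rw [map_add, map_add, hx, hy, add_zero]

variable [IsNoetherianRing R]

theorem exists_stable (a : R) : ∃ k₀ : ℕ, ∀ (k : ℕ) (x : R), a ^ k * x = 0 → a ^ k₀ * x = 0 := by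
  let K : ℕ →o Ideal R :=
    { toFun := fun k => LinearMap.ker (LinearMap.mulLeft R (a ^ k))
      monotone' := fun i j hij x hx => by
        obtain ⟨d, rfl⟩ := Nat.exists_eq_add_of_le hij
        simp only [LinearMap.mem_ker, LinearMap.mulLeft_apply] at hx ⊢
        rw [add_comm, pow_add, mul_assoc, hx, mul_zero] }
  obtain ⟨n, hn⟩ := monotone_stabilizes_iff_noetherian.2 (inferInstance : IsNoetherian R R) K
  refine ⟨n, fun k x hx => ?_⟩
  rcases le_total n k with h | h
  · have : x ∈ K n := by rw [hn k h]; exact hx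
    exact this
  · exact K.monotone h hx

/-- The principal case. -/
theorem exists_root_principal (a : R) [HenselianRing R (Ideal.span {a})] (c : ℕ)
    (f : Fin r → MvPolynomial (Fin m) R) (hf : Good f (a ^ c)) :
    ∃ N₀ : ℕ, ∀ N, N₀ ≤ N → ∀ a₀ : Fin m → R, (∀ j, eval a₀ (f j) ∈ Ideal.span {a ^ N}) →
      ∃ a₁ : Fin m → R, (∀ j, eval a₁ (f j) = 0) ∧ ∀ i, a₁ i - a₀ i ∈ Ideal.span {a ^ (N - 2 * c)} := by
  classical
  obtain ⟨U, h1, h2⟩ := hf
  obtain ⟨k₀, hk₀⟩ := exists_stable a
  refine ⟨k₀ + 4 * c + 1, fun N hN a₀ ha₀ => ?_⟩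
  set e := a ^ c with he
  let g : Fin m → MvPolynomial (Fin m) R := fun i => ∑ j, U i j * f j
  have hv : Ideal.span (Set.range fun j => eval a₀ (f j)) ≤ Ideal.span {a ^ N} :=
    Ideal.span_le.2 (by rintro _ ⟨j, rfl⟩; exact ha₀ j)
  have hjac : Ideal.span {a} ≤ Ideal.jacobson ⊥ := HenselianRing.jac (I := Ideal.span {a})
  -- the constant term
  have hg0 : ∀ i, ∃ γ, γ ∈ Ideal.span {a ^ (N - 2 * c)} ∧ eval a₀ (g i) = e ^ 2 * γ := by
    intro i
    have : eval a₀ (g i) ∈ Ideal.span {a ^ N} := by
      simp only [g, map_sum, map_mul]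
      exact sum_mem fun j _ => Ideal.mul_mem_left _ _ (ha₀ j)
    obtain ⟨w, hw⟩ := Ideal.mem_span_singleton'.1 this
    refine ⟨w * a ^ (N - 2 * c), Ideal.mem_span_singleton'.2 ⟨w, rfl⟩, ?_⟩
    rw [← hw, show a ^ N = e ^ 2 * a ^ (N - 2 * c) by rw [he, ← pow_mul, ← pow_add]; congr 1; omega]
    ring
  choose γ hγ hγe using hg0
  -- the linear term
  have hg1 : ∀ i k, ∃ δ, δ ∈ Ideal.span {a} ∧
      eval a₀ (pderiv k (g i)) = e * ((if i = k then 1 else 0) + δ) := by
    intro i k
    have hmem : pderiv k (g i) - (if i = k then C e else 0) ∈ rel f := by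
      have h := sub_mem (pderiv_sum_mul f (U i) k) (h1 i k)
      have e1 : pderiv k (g i) - (if i = k then C e else 0) =
          (pderiv k (∑ j, U i j * f j) - ∑ j, U i j * pderiv k (f j)) -
            ((if i = k then C e else 0) - ∑ j, U i j * pderiv k (f j)) := by
        simp only [g]; ring
      rw [e1]; exact h
    obtain ⟨w, hw⟩ := Ideal.mem_span_singleton'.1 (hv (eval_mem_of_mem_rel a₀ hmem))
    refine ⟨w * a ^ (N - c), Ideal.mul_mem_left _ _ ?_, ?_⟩
    · exact Ideal.pow_mem_of_mem _ (Ideal.mem_span_singleton_self a) _ (by omega)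
    · rw [map_sub] at hw
      have h3 : eval a₀ (pderiv k (g i)) = w * a ^ N + eval a₀ (if i = k then C e else 0) := by
        rw [hw]; ring
      rw [h3, show a ^ N = a ^ (N - c) * e by rw [he, ← pow_add, Nat.sub_add_cancel (by omega)]]
      split_ifs <;> simp <;> ring
  choose δ hδ hδe using hg1
  -- the quadratic term
  let ψ : Fin m → MvPolynomial (Fin m) R := fun k => C e * X k
  have hg2 : ∀ i, ∃ Q, Q ∈ Ideal.span (Set.range (X : Fin m → MvPolynomial (Fin m) R)) ^ 2 ∧
      aeval ((fun k => C (a₀ k)) + ψ) (g i) - aeval (fun k => C (a₀ k)) (g i) -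
        ∑ k, aeval (fun k => C (a₀ k)) (pderiv k (g i)) * ψ k = C e ^ 2 * Q := by
    intro i
    have h := (GreenbergLib.taylor_mem (Ideal.span {C e} * Ideal.span (Set.range (X : Fin m → MvPolynomial (Fin m) R)))
      (fun k => C (a₀ k)) ψ (fun k => Ideal.mul_mem_mul (Ideal.mem_span_singleton_self _) (Ideal.subset_span ⟨k, rfl⟩))
      (g i)).2
    rw [mul_pow, Ideal.span_singleton_pow, Ideal.mem_span_singleton_mul] at h
    obtain ⟨Q, hQ, hQe⟩ := h
    exact ⟨Q, hQ, hQe.symm⟩
  choose Q hQ hQe using hg2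
  have hconst : ∀ p : MvPolynomial (Fin m) R, aeval (fun k => (C (a₀ k) : MvPolynomial (Fin m) R)) p = C (eval a₀ p) := by
    intro p
    induction p using MvPolynomial.induction_on with
    | C x => simp
    | add p q hp hq => rw [map_add, map_add, map_add, hp, hq]
    | mul_X p j hp => rw [map_mul, map_mul, map_mul, hp, aeval_X, eval_X]
  let H : Fin m → MvPolynomial (Fin m) R := fun i =>
    C (γ i) + ∑ k, C ((if i = k then 1 else 0) + δ i k) * X k + Q i
  have hexp : ∀ i, aeval ((fun k => C (a₀ k)) + ψ) (g i) = C e ^ 2 * H i := by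
    intro i
    have h := hQe i
    rw [hconst, hγe, sub_sub, sub_eq_iff_eq_add] at h
    simp only [hconst, hδe] at h
    rw [h]
    simp only [H, ψ, map_mul, map_pow, mul_add, Finset.mul_sum]
    have hs : ∑ k : Fin m, C ((e * if i = k then (1 : R) else 0) + e * δ i k) * (C e * X k) =
        ∑ k : Fin m, C e ^ 2 * (C ((if i = k then (1 : R) else 0) + δ i k) * X k) :=
      Finset.sum_congr rfl fun k _ => by rw [← mul_add, map_mul]; ring
    rw [hs]; ring
  have hQ0 : ∀ (i : Fin m) (h : Fin m → R), eval h (Q i) ∈ Ideal.span (Set.range h) ^ 2 := by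
    intro i h
    have := Ideal.mem_map_of_mem (eval h) (hQ i)
    rw [Ideal.map_pow, Ideal.map_span, ← Set.range_comp] at this
    simpa [Function.comp_def] using this
  obtain ⟨h, hh, hha⟩ := Hensel.exists_root_of_isUnit_jacobian (Ideal.span {a}) H (fun _ => 0) (fun i => by
      have hq : eval (fun _ => (0 : R)) (Q i) = 0 := by
        have h0 : Ideal.span (Set.range fun _ : Fin m => (0 : R)) ^ 2 ≤ ⊥ := by
          rw [pow_two]
          refine Ideal.mul_le_right.trans (Ideal.span_le.2 ?_)
          rintro _ ⟨_, rfl⟩; exact zero_mem _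
        exact h0 (hQ0 i fun _ => 0)
      simp only [H, map_add, map_sum, map_mul, eval_C, eval_X, mul_zero, Finset.sum_const_zero, add_zero, hq]
      exact Ideal.span_singleton_le_span_singleton.2 (dvd_pow_self a (by omega)) (hγ i)) (by
      rw [RingHom.map_det]
      have h1m : (Ideal.Quotient.mk (Ideal.span {a})).mapMatrix
          (Matrix.of fun i k => eval (fun _ => (0 : R)) (pderiv k (H i))) = 1 := by
        ext i k
        have hval : eval (fun _ => (0 : R)) (pderiv k (H i)) = (if i = k then 1 else 0) + δ i k := by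
          simp only [H, map_add, map_sum, pderiv_C, pderiv_mul, pderiv_X, zero_mul, zero_add,
            eval_zero_pderiv_of_mem_sq (hQ i) k, add_zero, map_mul, eval_C, map_zero]
          rw [Finset.sum_eq_single k (fun l _ hl => by simp [Pi.single_eq_of_ne hl]) (by simp)]
          simp
        simp only [RingHom.mapMatrix_apply, Matrix.map_apply, Matrix.of_apply, hval, map_add,
          Ideal.Quotient.eq_zero_iff_mem.2 (hδ i k), add_zero, Matrix.one_apply]
        split_ifs <;> simp
      rw [h1m, Matrix.det_one]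
      exact isUnit_one)
  simp only [sub_zero] at hha
  -- the root is small
  have hK : Ideal.span (Set.range h) ≤ Ideal.span {a ^ (N - 2 * c)} := by
    refine Submodule.le_of_le_smul_of_le_jacobson_bot (Submodule.fg_span (Set.finite_range h)) hjac ?_
    refine Ideal.span_le.2 ?_
    rintro _ ⟨i, rfl⟩
    have h0 := hh i
    simp only [H, map_add, map_sum, map_mul, eval_C, eval_X] at h0
    have hi : ∑ k, ((if i = k then (1 : R) else 0) + δ i k) * h k = h i + ∑ k, δ i k * h k := by
      simp [add_mul, Finset.sum_add_distrib, ite_mul]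
    rw [hi] at h0
    rw [SetLike.mem_coe, show h i = -γ i + -(∑ k, δ i k * h k + eval h (Q i)) by linear_combination h0]
    refine Submodule.add_mem_sup (neg_mem (hγ i)) (neg_mem (add_mem (sum_mem fun k _ => ?_) ?_))
    · exact Submodule.smul_mem_smul (hδ i k) (Ideal.subset_span ⟨k, rfl⟩)
    · have hle : Ideal.span (Set.range h) ^ 2 ≤ Ideal.span {a} • Ideal.span (Set.range h) := by
        rw [pow_two, smul_eq_mul]
        exact mul_le_mul_left (Ideal.span_le.2 (by rintro _ ⟨k, rfl⟩; exact hha k)) _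
      exact hle (hQ0 i h)
  let a₁ : Fin m → R := fun k => a₀ k + e * h k
  have hdiff : ∀ i, a₁ i - a₀ i ∈ Ideal.span {a ^ (N - 2 * c)} := fun i => by
    simp only [a₁, add_sub_cancel_left]
    exact Ideal.mul_mem_left _ _ (hK (Ideal.subset_span ⟨i, rfl⟩))
  have hg1' : ∀ i, eval a₁ (g i) = 0 := by
    intro i
    have := congrArg (eval h) (hexp i)
    rw [map_mul, hh i, mul_zero] at this
    rw [← this]
    generalize g i = p
    induction p using MvPolynomial.induction_on with
    | C x => simp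
    | add p q hp hq => simp [hp, hq]
    | mul_X p j hp => simp [hp, a₁, ψ]
  -- all relations vanish
  let V := Ideal.span (Set.range fun j => eval a₁ (f j))
  have hVle : V ≤ Ideal.span {a ^ (N - 2 * c)} := by
    refine Ideal.span_le.2 ?_
    rintro _ ⟨j, rfl⟩
    have h3 := (GreenbergLib.taylor_mem (Ideal.span {a ^ (N - 2 * c)}) a₀ (a₁ - a₀) hdiff (f j)).1
    rw [add_sub_cancel, MvPolynomial.aeval_eq_eval] at h3
    have h4 : eval a₀ (f j) ∈ Ideal.span {a ^ (N - 2 * c)} :=
      Ideal.span_singleton_le_span_singleton.2 (pow_dvd_pow a (by omega)) (ha₀ j)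
    simpa using add_mem h3 h4
  have hV2 : Ideal.span {e ^ 2} * V ≤ V ^ 2 := by
    refine (Ideal.span_singleton_mul_le_iff).2 fun z hz => ?_
    induction hz using Submodule.span_induction with
    | mem z hz =>
      obtain ⟨j, rfl⟩ := hz
      have h3 := Ideal.mem_map_of_mem (eval a₁) (h2 j)
      rw [Ideal.map_sup, Ideal.map_pow, rel, Ideal.map_span, Ideal.map_span, ← Set.range_comp, ← Set.range_comp,
        map_mul, map_pow, eval_C] at h3
      have h5 : (eval a₁) ∘ (fun i => ∑ j', U i j' * f j') = fun _ : Fin m => (0 : R) := funext hg1'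
      rw [h5] at h3
      refine (show _ ⊔ V ^ 2 ≤ V ^ 2 from sup_le ?_ le_rfl) h3
      exact Ideal.span_le.2 (by rintro _ ⟨_, rfl⟩; exact zero_mem _)
    | zero => rw [mul_zero]; exact zero_mem _
    | add x y _ _ hx hy => rw [mul_add]; exact add_mem hx hy
    | smul b x _ hx => rw [smul_eq_mul, mul_left_comm]; exact Ideal.mul_mem_left _ _ hx
  have hzero : Ideal.span {e ^ 2} * V = ⊥ := by
    refine Submodule.eq_bot_of_le_smul_of_le_jacobson_bot (Ideal.span {a}) _ (IsNoetherian.noetherian _) ?_ hjac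
    refine hV2.trans ?_
    rw [pow_two, smul_eq_mul, ← mul_assoc, Ideal.span_singleton_mul_span_singleton]
    refine mul_le_mul_left ?_ _
    refine hVle.trans (Ideal.span_singleton_le_span_singleton.2 ?_)
    rw [show a ^ (N - 2 * c) = a ^ (N - 4 * c) * e ^ 2 by rw [he, ← pow_mul, ← pow_add]; congr 1; omega]
    exact mul_dvd_mul (dvd_pow_self a (by omega)) dvd_rfl
  refine ⟨a₁, fun j => ?_, hdiff⟩
  have hj : e ^ 2 * eval a₁ (f j) = 0 := by
    have := Ideal.mul_mem_mul (Ideal.mem_span_singleton_self (e ^ 2)) (Ideal.subset_span ⟨j, rfl⟩ : eval a₁ (f j) ∈ V)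
    rwa [hzero, Ideal.mem_bot] at this
  obtain ⟨w, hw⟩ := Ideal.mem_span_singleton'.1 (hVle (Ideal.subset_span ⟨j, rfl⟩ : eval a₁ (f j) ∈ V))
  rw [← hw, he, ← pow_mul] at hj
  have := hk₀ (c * 2 + (N - 2 * c)) w (by rw [pow_add]; linear_combination hj)
  show eval a₁ (f j) = 0
  rw [← hw, show N - 2 * c = (N - 2 * c - k₀) + k₀ by omega, pow_add]
  linear_combination a ^ (N - 2 * c - k₀) * this

end Groth.Agent.H1Elkik
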