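import Mathlib
import Groth.Agent.H1Elkik.Newton

/-!
# Approximation for algebras smooth away from `t = 0`
-/

set_option autoImplicit false
set_option linter.style.haveILetI false

universe u

open MvPolynomial

namespace Groth.Agent.H1Elkik

variable {R : Type u} [CommRing R] {m r : ℕ}

/-- `e` times the inclusion of the conormal module factors through the differential. -/
def SGood (f : Fin r → MvPolynomial (Fin m) R) (e : R) : Prop :=
  ∃ W : Fin m → MvPolynomial (Fin m) R, (∀ k, W k ∈ rel f) ∧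
    ∀ j, C e * f j - ∑ k, pderiv k (f j) * W k ∈ rel f ^ 2

theorem pderiv_mem_of_mem_sq {I : Ideal (MvPolynomial (Fin m) R)} {p : MvPolynomial (Fin m) R}
    (hp : p ∈ I ^ 2) (k : Fin m) : pderiv k p ∈ I := by
  rw [pow_two] at hp
  induction hp using Submodule.mul_induction_on' with
  | mem_mul_mem x hx y hy =>
    rw [pderiv_mul]; exact add_mem (Ideal.mul_mem_left _ _ hy) (Ideal.mul_mem_right _ _ hx)
  | add x _ y _ hx hy => rw [map_add]; exact add_mem hx hy

theorem sum_mul_sum_sub (D : Fin m → R) (P : Fin m → Fin m → R) (d : Fin m → R) (e : R) :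
    ∑ k, D k * (∑ l, P k l * d l - e * d k) = ∑ l, d l * -(e * D l - ∑ k, D k * P k l) := by
  simp only [neg_sub, mul_sub, Finset.mul_sum, Finset.sum_sub_distrib]
  rw [Finset.sum_comm]
  exact congrArg₂ _ (Finset.sum_congr rfl fun k _ => Finset.sum_congr rfl fun l _ => by ring)
    (Finset.sum_congr rfl fun k _ => by ring)

theorem exists_root_of_sgood (a : R) [HenselianRing R (Ideal.span {a})] (k₀ c : ℕ)
    (hk₀ : ∀ (k : ℕ) (x : R), a ^ k * x = 0 → a ^ k₀ * x = 0)
    (f : Fin r → MvPolynomial (Fin m) R) (hf : SGood f (a ^ c)) (N : ℕ) (hN : k₀ + 3 * c + 1 ≤ N)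
    (a₀ : Fin m → R) (ha₀ : ∀ j, eval a₀ (f j) ∈ Ideal.span {a ^ N}) :
    ∃ a₁ : Fin m → R, (∀ j, eval a₁ (f j) = 0) ∧ ∀ i, a₁ i - a₀ i ∈ Ideal.span {a ^ (N - 2 * c)} := by
  classical
  obtain ⟨W, hW, hWf⟩ := hf
  set e := a ^ c with he
  have hv : Ideal.span (Set.range fun j => eval a₀ (f j)) ≤ Ideal.span {a ^ N} :=
    Ideal.span_le.2 (by rintro _ ⟨j, rfl⟩; exact ha₀ j)
  have hjac : Ideal.span {a} ≤ Ideal.jacobson ⊥ := HenselianRing.jac (I := Ideal.span {a})
  let g : Fin m → MvPolynomial (Fin m) R := fun k =>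
    W k + C e * (X k - C (a₀ k)) - ∑ l, pderiv l (W k) * (X l - C (a₀ l))
  have hg0 : ∀ i, ∃ γ, γ ∈ Ideal.span {a ^ (N - 2 * c)} ∧ eval a₀ (g i) = e ^ 2 * γ := by
    intro i
    obtain ⟨w, hw⟩ := Ideal.mem_span_singleton'.1 (hv (eval_mem_of_mem_rel a₀ (hW i)))
    refine ⟨w * a ^ (N - 2 * c), Ideal.mem_span_singleton'.2 ⟨w, rfl⟩, ?_⟩
    have h0 : eval a₀ (g i) = eval a₀ (W i) := by simp [g]
    rw [h0, ← hw, show a ^ N = e ^ 2 * a ^ (N - 2 * c) by rw [he, ← pow_mul, ← pow_add]; congr 1; omega]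
    ring
  choose γ hγ hγe using hg0
  have hg1 : ∀ i k, eval a₀ (pderiv k (g i)) = e * (if i = k then 1 else 0) := by
    intro i k
    simp [g, Pi.single_apply, apply_ite (eval a₀), eq_comm]
  -- the quadratic term
  let ψ : Fin m → MvPolynomial (Fin m) R := fun k => C e * X k
  have hg2 : ∀ i, ∃ Q, Q ∈ Ideal.span (Set.range (X : Fin m → MvPolynomial (Fin m) R)) ^ 2 ∧
      aeval ((fun k => C (a₀ k)) + ψ) (g i) - aeval (fun k => C (a₀ k)) (g i) -
        ∑ k, aeval (fun k => C (a₀ k)) (pderiv k (g i)) * ψ k = C e ^ 2 * Q := by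
    intro i
    have h := (GreenbergLib.taylor_mem (Ideal.span {C e} * Ideal.span (Set.range (X : Fin m → MvPolynomial (Fin m) R)))
      (fun k => C (a₀ k)) ψ (fun k => Ideal.mul_mem_mul (Ideal.mem_span_singleton_self _) (Ideal.subset_span ⟨k, rfl⟩))
      (g i)).2
    rw [mul_pow, Ideal.span_singleton_pow, Ideal.mem_span_singleton_mul] at h
    obtain ⟨Q, hQ, hQe⟩ := h
    exact ⟨Q, hQ, hQe.symm⟩
  choose Q hQ hQe using hg2
  have hconst : ∀ p : MvPolynomial (Fin m) R, aeval (fun k => (C (a₀ k) : MvPolynomial (Fin m) R)) p = C (eval a₀ p) := by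
    intro p
    induction p using MvPolynomial.induction_on with
    | C x => simp
    | add p q hp hq => rw [map_add, map_add, map_add, hp, hq]
    | mul_X p j hp => rw [map_mul, map_mul, map_mul, hp, aeval_X, eval_X]
  let H : Fin m → MvPolynomial (Fin m) R := fun i => C (γ i) + X i + Q i
  have hexp : ∀ i, aeval ((fun k => C (a₀ k)) + ψ) (g i) = C e ^ 2 * H i := by
    intro i
    have h := hQe i
    rw [hconst, hγe, sub_sub, sub_eq_iff_eq_add] at h
    simp only [hconst, hg1] at h
    rw [h]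
    have hs : ∑ k : Fin m, C (e * if i = k then (1 : R) else 0) * ψ k = C e ^ 2 * X i := by
      rw [Finset.sum_eq_single i (fun l _ hl => by simp [Ne.symm hl]) (by simp)]
      simp [ψ]; ring
    rw [hs]
    simp only [H, map_mul, map_pow]; ring
  have hQ0 : ∀ (i : Fin m) (h : Fin m → R), eval h (Q i) ∈ Ideal.span (Set.range h) ^ 2 := by
    intro i h
    have := Ideal.mem_map_of_mem (eval h) (hQ i)
    rw [Ideal.map_pow, Ideal.map_span, ← Set.range_comp] at this
    simpa [Function.comp_def] using this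
  obtain ⟨h, hh, hha⟩ := Hensel.exists_root_of_isUnit_jacobian (Ideal.span {a}) H (fun _ => 0) (fun i => by
      have hq : eval (fun _ => (0 : R)) (Q i) = 0 := by
        have h0 : Ideal.span (Set.range fun _ : Fin m => (0 : R)) ^ 2 ≤ ⊥ := by
          rw [pow_two]
          refine Ideal.mul_le_right.trans (Ideal.span_le.2 ?_)
          rintro _ ⟨_, rfl⟩; exact zero_mem _
        exact h0 (hQ0 i fun _ => 0)
      simp only [H, map_add, eval_C, eval_X, add_zero, hq]
      exact Ideal.span_singleton_le_span_singleton.2 (dvd_pow_self a (by omega)) (hγ i)) (by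
      have h1m : (Matrix.of fun i k => eval (fun _ => (0 : R)) (pderiv k (H i))) = 1 := by
        ext i k
        have hq := eval_zero_pderiv_of_mem_sq (hQ i) k
        simp only [Matrix.of_apply, H, map_add, pderiv_C, pderiv_X, zero_add, hq, add_zero]
        rcases eq_or_ne i k with rfl | h
        · simp
        · simp [h]
      rw [h1m, Matrix.det_one, map_one]
      exact isUnit_one)
  simp only [sub_zero] at hha
  -- the root is small
  have hK : Ideal.span (Set.range h) ≤ Ideal.span {a ^ (N - 2 * c)} := by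
    refine Submodule.le_of_le_smul_of_le_jacobson_bot (Submodule.fg_span (Set.finite_range h)) hjac ?_
    refine Ideal.span_le.2 ?_
    rintro _ ⟨i, rfl⟩
    have h0 := hh i
    simp only [H, map_add, eval_C, eval_X] at h0
    rw [SetLike.mem_coe, show h i = -γ i + -eval h (Q i) by linear_combination h0]
    refine Submodule.add_mem_sup (neg_mem (hγ i)) (neg_mem ?_)
    have hle : Ideal.span (Set.range h) ^ 2 ≤ Ideal.span {a} • Ideal.span (Set.range h) := by
      rw [pow_two, smul_eq_mul]
      exact mul_le_mul_left (Ideal.span_le.2 (by rintro _ ⟨k, rfl⟩; exact hha k)) _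
    exact hle (hQ0 i h)
  let a₁ : Fin m → R := fun k => a₀ k + e * h k
  have hd : ∀ i, a₁ i - a₀ i ∈ Ideal.span {a ^ (N - c)} := fun i => by
    simp only [a₁, add_sub_cancel_left]
    rw [show a ^ (N - c) = e * a ^ (N - 2 * c) by rw [he, ← pow_add]; congr 1; omega,
      ← Ideal.span_singleton_mul_span_singleton]
    exact Ideal.mul_mem_mul (Ideal.mem_span_singleton_self _) (hK (Ideal.subset_span ⟨i, rfl⟩))
  have hg1' : ∀ i, eval a₁ (g i) = 0 := by
    intro i
    have := congrArg (eval h) (hexp i)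
    rw [map_mul, hh i, mul_zero] at this
    rw [← this]
    generalize g i = p
    induction p using MvPolynomial.induction_on with
    | C x => simp
    | add p q hp hq => simp [hp, hq]
    | mul_X p j hp => simp [hp, a₁, ψ]
  -- all relations vanish
  let F := Ideal.span (Set.range fun j => eval a₁ (f j))
  let D := Ideal.span {a ^ (N - c)}
  have hFle : F ≤ D := by
    refine Ideal.span_le.2 ?_
    rintro _ ⟨j, rfl⟩
    have h3 := (GreenbergLib.taylor_mem D a₀ (a₁ - a₀) hd (f j)).1
    rw [add_sub_cancel, MvPolynomial.aeval_eq_eval] at h3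
    have h4 : eval a₀ (f j) ∈ D :=
      Ideal.span_singleton_le_span_singleton.2 (pow_dvd_pow a (by omega)) (ha₀ j)
    simpa using add_mem h3 h4
  have hDW : ∀ (j : Fin r) (l : Fin m),
      C e * pderiv l (f j) - ∑ k, pderiv k (f j) * pderiv l (W k) ∈ rel f := by
    intro j l
    have h1 := pderiv_mem_of_mem_sq (hWf j) l
    rw [map_sub, map_sum, pderiv_mul, pderiv_C, zero_mul, zero_add] at h1
    simp only [pderiv_mul, Finset.sum_add_distrib] at h1
    have h2 : ∑ k, pderiv l (pderiv k (f j)) * W k ∈ rel f :=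
      sum_mem fun k _ => Ideal.mul_mem_left _ _ (hW k)
    have e1 : C e * pderiv l (f j) - ∑ k, pderiv k (f j) * pderiv l (W k) =
        (C e * pderiv l (f j) -
          (∑ k, pderiv l (pderiv k (f j)) * W k + ∑ k, pderiv k (f j) * pderiv l (W k))) +
          ∑ k, pderiv l (pderiv k (f j)) * W k := by ring
    rw [e1]; exact add_mem h1 h2
  have hV : Ideal.span {e} * F ≤ D * F := by
    refine (Ideal.span_singleton_mul_le_iff).2 fun z hz => ?_
    induction hz using Submodule.span_induction with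
    | mem z hz =>
      obtain ⟨j, rfl⟩ := hz
      have h3 := Ideal.mem_map_of_mem (eval a₁) (hWf j)
      rw [Ideal.map_pow, rel, Ideal.map_span, ← Set.range_comp, map_sub, map_mul, eval_C, map_sum] at h3
      simp only [map_mul] at h3
      have h4 : ∑ k, eval a₁ (pderiv k (f j)) * eval a₁ (W k) ∈ D * F := by
        have hWk : ∀ k, eval a₁ (W k) =
            ∑ l, eval a₁ (pderiv l (W k)) * (a₁ l - a₀ l) - e * (a₁ k - a₀ k) := by
          intro k
          have := hg1' k
          simp only [g, map_sub, map_add, map_sum, map_mul, eval_C, eval_X] at this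
          linear_combination this
        simp only [hWk]
        rw [sum_mul_sum_sub (fun k => eval a₁ (pderiv k (f j))) (fun k l => eval a₁ (pderiv l (W k)))
          (fun l => a₁ l - a₀ l) e]
        refine sum_mem fun l _ => Ideal.mul_mem_mul (hd l) (neg_mem ?_)
        simpa [map_sub, map_sum, map_mul, eval_C] using eval_mem_of_mem_rel a₁ (hDW j l)
      have h5 : F ^ 2 ≤ D * F := by rw [pow_two]; exact mul_le_mul_left hFle _
      have := add_mem (h5 h3) h4
      simpa using this
    | zero => rw [mul_zero]; exact zero_mem _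
    | add x y _ _ hx hy => rw [mul_add]; exact add_mem hx hy
    | smul b x _ hx => rw [smul_eq_mul, mul_left_comm]; exact Ideal.mul_mem_left _ _ hx
  have hzero : Ideal.span {e} * F = ⊥ := by
    refine Submodule.eq_bot_of_le_smul_of_le_jacobson_bot (Ideal.span {a}) _
      (Submodule.FG.mul (Submodule.fg_span_singleton e) (Submodule.fg_span (Set.finite_range _))) ?_ hjac
    refine hV.trans ?_
    rw [smul_eq_mul, ← mul_assoc, Ideal.span_singleton_mul_span_singleton]
    refine mul_le_mul_left (Ideal.span_singleton_le_span_singleton.2 ?_) _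
    rw [show a ^ (N - c) = a ^ (N - 2 * c) * e by rw [he, ← pow_add]; congr 1; omega]
    exact mul_dvd_mul (dvd_pow_self a (by omega)) dvd_rfl
  refine ⟨a₁, fun j => ?_, fun i =>
    Ideal.span_singleton_le_span_singleton.2 (pow_dvd_pow a (by omega)) (hd i)⟩
  have hj : e * eval a₁ (f j) = 0 := by
    have := Ideal.mul_mem_mul (Ideal.mem_span_singleton_self e) (Ideal.subset_span ⟨j, rfl⟩ : eval a₁ (f j) ∈ F)
    rwa [hzero, Ideal.mem_bot] at this
  obtain ⟨w, hw⟩ := Ideal.mem_span_singleton'.1 (hFle (Ideal.subset_span ⟨j, rfl⟩ : eval a₁ (f j) ∈ F))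
  rw [← hw, he] at hj
  have := hk₀ (c + (N - c)) w (by rw [pow_add]; linear_combination hj)
  show eval a₁ (f j) = 0
  rw [← hw, show N - c = (N - c - k₀) + k₀ by omega, pow_add]
  linear_combination a ^ (N - c - k₀) * this

/-- Formal smoothness away from `t = 0` gives the condition `SGood` for a power of `t`. -/
theorem exists_sgood (t : R) (f : Fin r → MvPolynomial (Fin m) R)
    [Algebra.FormallySmooth R (Localization.Away (C t : MvPolynomial (Fin m) R) ⧸
      (rel f).map (algebraMap _ (Localization.Away (C t : MvPolynomial (Fin m) R))))] :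
    ∃ c, SGood f (t ^ c) := by
  classical
  let L := Localization.Away (C t : MvPolynomial (Fin m) R)
  let M : Submonoid (MvPolynomial (Fin m) R) := Submonoid.powers (C t)
  let ι : MvPolynomial (Fin m) R →+* L := algebraMap _ L
  let I : Ideal L := (rel f).map ι
  let q : (L ⧸ I ^ 2) →ₐ[R] L ⧸ I := Ideal.Quotient.factorₐ R (Ideal.pow_le_self two_ne_zero)
  have hq : Function.Surjective q := by
    intro y
    obtain ⟨x, rfl⟩ := Ideal.Quotient.mk_surjective y
    exact ⟨Ideal.Quotient.mk _ x, rfl⟩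
  have hnil : IsNilpotent (RingHom.ker (q : (L ⧸ I ^ 2) →+* L ⧸ I)) := by
    refine ⟨2, ?_⟩
    have hle : RingHom.ker (q : (L ⧸ I ^ 2) →+* L ⧸ I) ≤ I.map (Ideal.Quotient.mk (I ^ 2)) := by
      intro z hz
      obtain ⟨x, rfl⟩ := Ideal.Quotient.mk_surjective z
      exact Ideal.mem_map_of_mem _ (Ideal.Quotient.eq_zero_iff_mem.1 hz)
    rw [Ideal.zero_eq_bot, ← le_bot_iff]
    refine (pow_le_pow_left' hle 2).trans ?_
    rw [← Ideal.map_pow (Ideal.Quotient.mk (I ^ 2)) I 2, Ideal.map_quotient_self]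

  let s : (L ⧸ I) →ₐ[R] L ⧸ I ^ 2 :=
    Algebra.FormallySmooth.liftOfSurjective (AlgHom.id R (L ⧸ I)) q hq hnil
  let x : Fin m → L := fun k => ι (X k)
  have hx : ∀ p : MvPolynomial (Fin m) R, aeval x p = ι p := fun p => by
    show aeval x p = IsScalarTower.toAlgHom R (MvPolynomial (Fin m) R) L p
    exact (AlgHom.congr_fun (MvPolynomial.aeval_unique (IsScalarTower.toAlgHom R (MvPolynomial (Fin m) R) L)) p).symm
  choose S hS using fun k => Ideal.Quotient.mk_surjective (s (Ideal.Quotient.mk I (x k)))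
  have hu : ∀ k, S k - x k ∈ I := fun k => by
    rw [← Ideal.Quotient.eq]
    have := Algebra.FormallySmooth.liftOfSurjective_apply (AlgHom.id R (L ⧸ I)) q hq hnil (Ideal.Quotient.mk I (x k))
    change q (s _) = _ at this
    rw [← hS k] at this
    exact this
  have hSf : ∀ j, ι (f j) + ∑ k, ι (pderiv k (f j)) * (S k - x k) ∈ I ^ 2 := fun j => by
    have h1 : aeval S (f j) ∈ I ^ 2 := by
      rw [← Ideal.Quotient.eq_zero_iff_mem]
      have e1 : (Ideal.Quotient.mkₐ R (I ^ 2)).comp (aeval S) =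
          (s.comp (Ideal.Quotient.mkₐ R I)).comp (aeval x) := by
        refine MvPolynomial.algHom_ext fun k => ?_
        simp only [AlgHom.comp_apply, aeval_X, Ideal.Quotient.mkₐ_eq_mk]
        exact hS k
      have := AlgHom.congr_fun e1 (f j)
      simp only [AlgHom.comp_apply, Ideal.Quotient.mkₐ_eq_mk] at this
      have hI : Ideal.Quotient.mk I (ι (f j)) = 0 :=
        Ideal.Quotient.eq_zero_iff_mem.2 (Ideal.mem_map_of_mem ι (Ideal.subset_span ⟨j, rfl⟩ : f j ∈ rel f))
      rw [this, hx, hI, map_zero]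
    have h2 := (GreenbergLib.taylor_mem I x (fun k => S k - x k) hu (f j)).2
    simp only [show x + (fun k => S k - x k) = S from funext fun k => add_sub_cancel _ _, hx] at h2
    have := sub_mem h1 h2
    rwa [show aeval S (f j) - (aeval S (f j) - ι (f j) - ∑ k, ι (pderiv k (f j)) * (S k - x k)) =
      ι (f j) + ∑ k, ι (pderiv k (f j)) * (S k - x k) by ring] at this
  have hclear : ∀ k, ∃ (c : ℕ) (w : MvPolynomial (Fin m) R), w ∈ rel f ∧ ι (C t ^ c) * (S k - x k) = ι w := by
    intro k
    obtain ⟨⟨⟨w, hw⟩, ⟨_, c, rfl⟩⟩, he⟩ := (IsLocalization.mem_map_algebraMap_iff M L).1 (hu k)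
    exact ⟨c, w, hw, by rw [mul_comm]; exact he⟩
  choose c w hw hwe using hclear
  let cs := ∑ k, c k
  have hc : ∀ k, c k ≤ cs := fun k => Finset.single_le_sum (fun _ _ => Nat.zero_le _) (Finset.mem_univ k)
  let W : Fin m → MvPolynomial (Fin m) R := fun k => -(C t ^ (cs - c k) * w k)
  have hWe : ∀ k, ι (W k) = -(ι (C t ^ cs) * (S k - x k)) := fun k => by
    simp only [W, map_neg, map_mul, ← hwe k, ← mul_assoc]
    rw [← map_mul ι, ← pow_add, Nat.sub_add_cancel (hc k)]
  have hd : ∀ j, ∃ d : ℕ, C t ^ d * (C t ^ cs * f j - ∑ k, pderiv k (f j) * W k) ∈ rel f ^ 2 := by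
    intro j
    have h1 : ι (C t ^ cs * f j - ∑ k, pderiv k (f j) * W k) ∈ (rel f ^ 2).map ι := by
      rw [Ideal.map_pow]
      simp only [map_sub, map_mul, map_sum, hWe]
      convert Ideal.mul_mem_left _ (ι (C t ^ cs)) (hSf j) using 1
      rw [mul_add, Finset.mul_sum, sub_eq_add_neg, ← Finset.sum_neg_distrib]
      exact congrArg _ (Finset.sum_congr rfl fun k _ => by ring)
    obtain ⟨_, ⟨d, rfl⟩, hd⟩ := (IsLocalization.algebraMap_mem_map_algebraMap_iff M L _ _).1 h1
    exact ⟨d, hd⟩
  choose d hd using hd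
  refine ⟨(∑ j, d j) + cs, fun k => C t ^ (∑ j, d j) * W k, fun k => ?_, fun j => ?_⟩
  · exact Ideal.mul_mem_left _ _ (neg_mem (Ideal.mul_mem_left _ _ (hw k)))
  · have h := Ideal.mul_mem_left _ (C t ^ ((∑ j, d j) - d j)) (hd j)
    rw [← mul_assoc, ← pow_add,
      Nat.sub_add_cancel (Finset.single_le_sum (fun _ _ => Nat.zero_le _) (Finset.mem_univ j))] at h
    convert h using 1
    rw [mul_sub, Finset.mul_sum, map_pow, ← mul_assoc, ← pow_add]
    exact congrArg _ (Finset.sum_congr rfl fun k _ => by ring)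

end Groth.Agent.H1Elkik
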