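import Groth.Agent.H1Elkik.Etale

/-!
# Approximation and rigidity of roots over henselian pairs
-/

set_option autoImplicit false
set_option linter.style.haveILetI false

universe u

open MvPolynomial

namespace Groth.Agent.H1Elkik

variable {m r : ℕ}

/-- Elkik's approximation lemma. -/
theorem exists_root : ∀ (s : ℕ) (R : Type u) [CommRing R] [IsNoetherianRing R] (a : Fin s → R)
    [HenselianRing R (Ideal.span (Set.range a))] (f : Fin r → MvPolynomial (Fin m) R)
    (_ : ∀ i, ∃ c, Good f (a i ^ c)) (n : ℕ),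
    ∃ N, ∀ a₀ : Fin m → R, (∀ j, eval a₀ (f j) ∈ Ideal.span (Set.range a) ^ N) →
      ∃ a₁ : Fin m → R, (∀ j, eval a₁ (f j) = 0) ∧ ∀ i, a₁ i - a₀ i ∈ Ideal.span (Set.range a) ^ n := by
  intro s
  induction s with
  | zero =>
    intro R _ _ a _ f _ n
    refine ⟨1, fun a₀ h => ⟨a₀, fun j => ?_, fun i => by rw [sub_self]; exact zero_mem _⟩⟩
    have h1 := h j
    rw [pow_one, Set.range_eq_empty, Ideal.span_empty] at h1
    exact h1
  | succ s ih =>
    intro R _ _ a _ f hf n
    let I := Ideal.span (Set.range a)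
    have ha : ∀ i, a i ∈ I := fun i => Ideal.subset_span ⟨i, rfl⟩
    haveI : HenselianRing R (Ideal.span {a 0}) :=
      Hensel.henselianRing_of_le (J := I) ((Ideal.span_singleton_le_iff_mem _).2 (ha 0))
    obtain ⟨c, hc⟩ := hf 0
    obtain ⟨N₀, hN₀⟩ := exists_root_principal (a 0) c f hc
    let M := N₀ + n + 2 * c + 1
    let K := Ideal.span {a 0 ^ M}
    let mk := Ideal.Quotient.mk K
    let a' : Fin (s + 1) → R ⧸ K := fun i => mk (a i)
    have hI' : Ideal.span (Set.range a') = I.map mk := by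
      rw [Ideal.map_span, ← Set.range_comp]; rfl
    haveI : HenselianRing (R ⧸ K) (Ideal.span (Set.range fun i : Fin s => mk (a i.succ))) := by
      haveI : HenselianRing (R ⧸ K) (I.map mk) := Hensel.henselianRing_quotient K I
      refine Hensel.henselianRing_of_le (J := I.map mk) (Ideal.span_le.2 ?_)
      rintro _ ⟨i, rfl⟩
      exact Ideal.mem_map_of_mem _ (ha _)
    obtain ⟨N', hN'⟩ := ih (R ⧸ K) (fun i => mk (a i.succ)) (fun j => MvPolynomial.map mk (f j))
      (fun i => (hf i.succ).imp fun c hc => by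
        have := hc.map mk
        rwa [map_pow] at this) n
    let I₁ := Ideal.span (Set.range fun i : Fin s => mk (a i.succ))
    -- a power of the full image lies in a power of the tail
    have hsplit : I.map mk ≤ I₁ ⊔ Ideal.span {mk (a 0)} := by
      rw [← hI', Ideal.span_le]
      rintro _ ⟨i, rfl⟩
      refine Fin.cases ?_ (fun i => ?_) i
      · exact Ideal.mem_sup_right (Ideal.mem_span_singleton_self _)
      · exact Ideal.mem_sup_left (Ideal.subset_span ⟨i, rfl⟩)
    have hpow : (I.map mk) ^ (N' + M) ≤ I₁ ^ N' := by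
      refine (Ideal.pow_right_mono hsplit _).trans (Ideal.sup_pow_add_le_pow_sup_pow.trans ?_)
      rw [Ideal.span_singleton_pow, ← map_pow, Ideal.Quotient.eq_zero_iff_mem.2 (Ideal.mem_span_singleton_self _),
        Ideal.span_singleton_eq_bot.2 rfl, sup_bot_eq]
    refine ⟨N' + M, fun a₀ ha₀ => ?_⟩
    obtain ⟨b, hb, hba⟩ := hN' (fun i => mk (a₀ i)) fun j => hpow (by
      rw [← Ideal.map_pow, eval_map, show (fun i => mk (a₀ i)) = mk ∘ a₀ from rfl, ← eval₂_comp]
      exact Ideal.mem_map_of_mem _ (ha₀ j))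
    choose b' hb' using fun i => Ideal.Quotient.mk_surjective (b i)
    obtain ⟨a₁, ha₁, hd⟩ := hN₀ M (by omega) b' fun j => by
      refine Ideal.Quotient.eq_zero_iff_mem.1 ?_
      show mk (eval b' (f j)) = 0
      rw [eval₂_comp, ← eval_map, show (mk ∘ b') = b from funext hb']
      exact hb j
    refine ⟨a₁, ha₁, fun i => ?_⟩
    have h1 : a₁ i - b' i ∈ I ^ n :=
      (Ideal.span_singleton_le_iff_mem _).2
        (Ideal.pow_le_pow_right (show n ≤ M - 2 * c by omega) (Ideal.pow_mem_pow (ha 0) (M - 2 * c))) (hd i)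
    have h2 : b' i - a₀ i ∈ I ^ n := by
      have h3 : mk (b' i - a₀ i) ∈ (I ^ n).map mk := by
        rw [map_sub, hb', Ideal.map_pow]
        refine Ideal.pow_right_mono (Ideal.span_le.2 ?_) n (hba i)
        rintro _ ⟨l, rfl⟩
        exact Ideal.mem_map_of_mem _ (ha _)
      obtain ⟨y, hy, hyx⟩ := (Ideal.mem_map_iff_of_surjective mk Ideal.Quotient.mk_surjective).1 h3
      have hK : K ≤ I ^ n :=
        (Ideal.span_singleton_le_iff_mem _).2 (Ideal.pow_le_pow_right (show n ≤ M by omega) (Ideal.pow_mem_pow (ha 0) M))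
      have h4 := hK (Ideal.Quotient.eq.1 hyx)
      rw [← sub_sub_cancel y (b' i - a₀ i)]
      exact sub_mem hy h4
    have := add_mem h1 h2
    rwa [sub_add_sub_cancel] at this

variable {R : Type u} [CommRing R] [IsNoetherianRing R]

/-- Roots close to each other are equal. -/
theorem root_unique {s : ℕ} (a : Fin s → R) (hI : Ideal.span (Set.range a) ≤ Ideal.jacobson ⊥)
    (f : Fin r → MvPolynomial (Fin m) R) (hf : ∀ i, ∃ c, Good f (a i ^ c)) :
    ∃ n, ∀ y z : Fin m → R, (∀ j, eval y (f j) = 0) → (∀ j, eval z (f j) = 0) →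
      (∀ i, y i - z i ∈ Ideal.span (Set.range a) ^ n) → y = z := by
  classical
  let I := Ideal.span (Set.range a)
  let E : Ideal R := Ideal.span {e | e ∈ I ∧ Good f e}
  have hrad : I ≤ E.radical := by
    refine Ideal.span_le.2 ?_
    rintro _ ⟨i, rfl⟩
    have hx : a i ∈ I := Ideal.subset_span ⟨i, rfl⟩
    obtain ⟨c, hc⟩ := hf i
    refine ⟨c + 1, Ideal.subset_span ⟨?_, hc.pow_succ (Nat.le_succ c)⟩⟩
    exact Ideal.pow_mem_of_mem I hx _ (Nat.succ_pos _)
  obtain ⟨c', hc'⟩ := Ideal.exists_pow_le_of_le_radical_of_fg hrad (IsNoetherian.noetherian _)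
  let T : Ideal R := Submodule.annihilator (I ^ c')
  obtain ⟨k, hk⟩ := I.exists_pow_inf_eq_pow_smul (M := R) T
  refine ⟨k + c' + 1, fun y z hy hz hyz => ?_⟩
  set n := k + c' + 1 with hn
  let d : Fin m → R := y - z
  let D := Ideal.span (Set.range d)
  have hD : D ≤ I ^ n := Ideal.span_le.2 (by rintro _ ⟨i, rfl⟩; exact hyz i)
  have hE : ∀ e, Good f e → ∀ i, e * d i ∈ I ^ n * D := by
    rintro e ⟨U, h1, -⟩ i
    have htay : ∀ j, ∑ l, eval z (pderiv l (f j)) * d l ∈ I ^ n * D := by
      intro j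
      have h2 := (GreenbergLib.taylor_mem D z d (fun l => Ideal.subset_span ⟨l, rfl⟩) (f j)).2
      simp only [MvPolynomial.aeval_eq_eval] at h2
      rw [show z + d = y by simp [d]] at h2
      simp only [hy, hz, sub_zero, zero_sub] at h2
      have h3 : D ^ 2 ≤ I ^ n * D := by rw [pow_two]; exact mul_le_mul_left hD _
      exact h3 (neg_mem_iff.1 h2)
    have hrow : ∀ l, (if i = l then e else 0) = ∑ j, eval z (U i j) * eval z (pderiv l (f j)) := by
      intro l
      have h4 := eval_mem_of_mem_rel z (h1 i l)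
      have h5 : Ideal.span (Set.range fun j => eval z (f j)) ≤ ⊥ :=
        Ideal.span_le.2 (by rintro _ ⟨j, rfl⟩; exact hz j)
      have h6 := h5 h4
      rw [Ideal.mem_bot, map_sub, sub_eq_zero, map_sum] at h6
      simp only [map_mul, apply_ite (eval z), eval_C, map_zero] at h6
      exact h6
    have h7 : e * d i = ∑ j, eval z (U i j) * ∑ l, eval z (pderiv l (f j)) * d l := by
      have h8 : ∑ l, (if i = l then e else 0) * d l = e * d i := by simp
      rw [← h8]
      simp only [hrow, Finset.sum_mul, Finset.mul_sum, mul_assoc]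
      exact Finset.sum_comm
    rw [h7]
    exact sum_mem fun j _ => Ideal.mul_mem_left _ _ (htay j)
  have hkill : I ^ c' * D = ⊥ := by
    refine Submodule.eq_bot_of_le_smul_of_le_jacobson_bot I _ (IsNoetherian.noetherian _) ?_ hI
    have h8 : I ^ c' * D ≤ I ^ n * D := by
      refine (mul_le_mul_left hc' _).trans ?_
      rw [Ideal.span_mul_span', Ideal.span_le]
      rintro _ ⟨e, he, _, ⟨i, rfl⟩, rfl⟩
      exact hE e he.2 i
    refine h8.trans ?_
    rw [smul_eq_mul, ← mul_assoc, ← pow_succ']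
    exact mul_le_mul_left (Ideal.pow_le_pow_right (by omega)) _
  have hT : D ≤ T := fun x hx => Submodule.mem_annihilator.2 fun w hw => by
    have := Ideal.mul_mem_mul hw hx
    rw [hkill, Ideal.mem_bot] at this
    rwa [smul_eq_mul, mul_comm]
  funext i
  rw [← sub_eq_zero]
  have hmem : d i ∈ I ^ n • (⊤ : Submodule R R) ⊓ T :=
    ⟨by rw [smul_eq_mul, Ideal.mul_top]; exact hyz i, hT (Ideal.subset_span ⟨i, rfl⟩)⟩
  rw [hk n (by omega)] at hmem
  refine (Submodule.smul_le.2 fun x hx w hw => ?_ : I ^ (n - k) • (I ^ k • (⊤ : Submodule R R) ⊓ T) ≤ ⊥) hmem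
  rw [Submodule.mem_bot, smul_eq_mul, mul_comm]
  exact Submodule.mem_annihilator.1 hw.2 x (Ideal.pow_le_pow_right (show c' ≤ n - k by omega) hx)

end Groth.Agent.H1Elkik
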