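import Groth.Agent.H1Elkik.Newton

/-!
# Elkik elements from étale localisations
-/

set_option autoImplicit false
set_option linter.style.haveILetI false

universe u

open MvPolynomial

namespace Groth.Agent.H1Elkik

variable {A : Type u} [CommRing A] {m r : ℕ}

theorem Good.pow_succ {f : Fin r → MvPolynomial (Fin m) A} {a : A} {c : ℕ} (h : Good f (a ^ c)) {c' : ℕ}
    (hc : c ≤ c') : Good f (a ^ c') := by
  obtain ⟨U, h1, h2⟩ := h
  obtain ⟨d, rfl⟩ := Nat.exists_eq_add_of_le hc
  refine ⟨fun i j => C (a ^ d) * U i j, fun i k => ?_, fun j => ?_⟩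
  · have h3 := Ideal.mul_mem_left (rel f) (C (a ^ d)) (h1 i k)
    have e1 : (if i = k then C (a ^ (c + d)) else 0) - ∑ j, C (a ^ d) * U i j * pderiv k (f j) =
        C (a ^ d) * ((if i = k then C (a ^ c) else 0) - ∑ j, U i j * pderiv k (f j)) := by
      rw [mul_sub, Finset.mul_sum]
      refine congrArg₂ _ ?_ (Finset.sum_congr rfl fun j _ => mul_assoc _ _ _)
      split_ifs
      · rw [← map_mul, ← pow_add, add_comm d]
      · rw [mul_zero]
    rw [e1]; exact h3
  · obtain ⟨x, hx, y, hy, hxy⟩ := Submodule.mem_sup.1 (h2 j)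
    rw [show C (a ^ (c + d)) ^ 2 * f j = C (a ^ d) ^ 2 * (C (a ^ c) ^ 2 * f j) by
      rw [pow_add, map_mul]; ring, ← hxy, mul_add]
    refine Submodule.add_mem_sup ?_ (Ideal.mul_mem_left _ _ hy)
    rw [pow_two, mul_assoc]
    refine Ideal.mul_mem_left _ _ ?_
    have h4 := Ideal.mem_map_of_mem (RingHom.id (MvPolynomial (Fin m) A)) hx
    have h5 : ∀ z ∈ Ideal.span (Set.range fun i => ∑ j', U i j' * f j'),
        C (a ^ d) * z ∈ Ideal.span (Set.range fun i => ∑ j', C (a ^ d) * U i j' * f j') := by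
      intro z hz
      induction hz using Submodule.span_induction with
      | mem z hz =>
        obtain ⟨i, rfl⟩ := hz
        exact Ideal.subset_span ⟨i, by rw [Finset.mul_sum]; exact Finset.sum_congr rfl fun j _ => mul_assoc _ _ _⟩
      | zero => rw [mul_zero]; exact zero_mem _
      | add z w _ _ hz hw => rw [mul_add]; exact add_mem hz hw
      | smul b z _ hz => rw [smul_eq_mul, mul_left_comm]; exact Ideal.mul_mem_left _ _ hz
    exact h5 x hx

/-- The presented algebra. -/
abbrev Pres (f : Fin r → MvPolynomial (Fin m) A) := MvPolynomial (Fin m) A ⧸ rel f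

variable (f : Fin r → MvPolynomial (Fin m) A) (a : A)
  [Algebra.Etale A (Localization.Away (algebraMap A (Pres f) a))]

/-- The first order lift. -/
theorem exists_newton_step :
    ∃ (k : ℕ) (G : Fin m → MvPolynomial (Fin m) A), (∀ i, G i ∈ rel f) ∧
      ∀ j, C (a ^ k) * f j + ∑ i, pderiv i (f j) * G i ∈ rel f ^ 2 := by
  classical
  let P₂ := MvPolynomial (Fin m) A ⧸ rel f ^ 2
  let T := Localization.Away (algebraMap A P₂ a)
  let B := Localization.Away (algebraMap A (Pres f) a)
  let red : P₂ →ₐ[A] Pres f := Ideal.Quotient.factorₐ A (Ideal.pow_le_self two_ne_zero)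
  have hu : IsUnit ((IsScalarTower.toAlgHom A (Pres f) B).comp red (algebraMap A P₂ a)) := by
    rw [AlgHom.commutes, IsScalarTower.algebraMap_apply A (Pres f) B]
    exact IsLocalization.Away.algebraMap_isUnit _
  let π : T →ₐ[A] B := IsLocalization.Away.liftAlgHom (algebraMap A P₂ a) hu
  have hπ : ∀ p, π (algebraMap P₂ T p) = algebraMap (Pres f) B (red p) := fun p =>
    IsLocalization.Away.lift_eq _ hu p
  have hform : ∀ z : T, ∃ (k : ℕ) (p : P₂), algebraMap P₂ T (algebraMap A P₂ a) ^ k * z = algebraMap P₂ T p := by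
    intro z
    obtain ⟨⟨p, ⟨_, k, rfl⟩⟩, hz⟩ := IsLocalization.surj (Submonoid.powers (algebraMap A P₂ a)) z
    exact ⟨k, p, by rw [mul_comm, ← map_pow]; exact hz⟩
  have hsurj : Function.Surjective π := by
    intro y
    obtain ⟨⟨p, ⟨_, k, rfl⟩⟩, hy⟩ := IsLocalization.surj (Submonoid.powers (algebraMap A (Pres f) a)) y
    obtain ⟨q, rfl⟩ := Ideal.Quotient.mk_surjective p
    obtain ⟨v, hv⟩ := IsLocalization.Away.algebraMap_isUnit (S := T) (algebraMap A P₂ a)
    refine ⟨algebraMap P₂ T (Ideal.Quotient.mk _ q) * ↑(v⁻¹ ^ k), ?_⟩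
    have hv' : π ↑v = algebraMap (Pres f) B (algebraMap A (Pres f) a) := by
      rw [hv, hπ, AlgHom.commutes]
    have hz : π (algebraMap P₂ T (Ideal.Quotient.mk _ q) * ↑(v⁻¹ ^ k)) * π ↑(v ^ k) =
        algebraMap (Pres f) B (Ideal.Quotient.mk _ q) := by
      rw [← map_mul, mul_assoc, inv_pow, Units.inv_mul, mul_one, hπ]
      rfl
    rw [Units.val_pow_eq_pow_val v, map_pow π (↑v : T), hv'] at hz
    refine (IsLocalization.map_units B (⟨_, k, rfl⟩ : Submonoid.powers (algebraMap A (Pres f) a))).mul_left_injective ?_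
    simp only [map_pow] at hz hy ⊢
    exact hz.trans hy.symm
  have hker : ∀ z, π z = 0 → ∃ (k : ℕ) (p : MvPolynomial (Fin m) A), p ∈ rel f ∧
      algebraMap P₂ T (algebraMap A P₂ a) ^ k * z = algebraMap P₂ T (Ideal.Quotient.mk _ p) := by
    intro z hz
    obtain ⟨k, p, hp⟩ := hform z
    have h0 := congrArg π hp
    rw [map_mul, hz, mul_zero, hπ] at h0
    obtain ⟨⟨_, l, rfl⟩, hl⟩ := (IsLocalization.map_eq_zero_iff (Submonoid.powers (algebraMap A (Pres f) a)) B _).1 h0.symm
    obtain ⟨q, rfl⟩ := Ideal.Quotient.mk_surjective p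
    refine ⟨l + k, C a ^ l * q, ?_, ?_⟩
    · refine Ideal.Quotient.eq_zero_iff_mem.1 ?_
      rw [map_mul, map_pow]
      exact hl
    · rw [pow_add, mul_assoc, hp, map_mul, map_mul, map_pow, map_pow]
      rfl
  have hua : IsUnit (algebraMap P₂ T (algebraMap A P₂ a)) := IsLocalization.Away.algebraMap_isUnit _
  have hsq' : RingHom.ker (π : T →+* B) * RingHom.ker (π : T →+* B) = ⊥ := by
    rw [eq_bot_iff, Ideal.mul_le]
    intro x hx y hy
    obtain ⟨k, p, hp, hpe⟩ := hker x hx
    obtain ⟨l, q, hq, hqe⟩ := hker y hy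
    rw [Ideal.mem_bot]
    refine ((hua.pow k).mul (hua.pow l)).mul_left_cancel ?_
    rw [mul_zero, mul_mul_mul_comm, hpe, hqe, ← map_mul, ← map_mul,
      Ideal.Quotient.eq_zero_iff_mem.2 (by rw [pow_two]; exact Ideal.mul_mem_mul hp hq), map_zero]
  have hsq : RingHom.ker (π : T →+* B) ^ 2 = ⊥ := (pow_two _).trans hsq'
  have hnil : IsNilpotent (RingHom.ker (π : T →+* B)) := ⟨2, hsq.trans Ideal.zero_eq_bot.symm⟩
  let s : B →ₐ[A] T := Algebra.FormallySmooth.liftOfSurjective (AlgHom.id A B) π hsurj hnil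
  have hs : ∀ b, π (s b) = b := fun b =>
    congr($(Algebra.FormallySmooth.comp_liftOfSurjective (AlgHom.id A B) π hsurj hnil) b)
  let mk₂ : MvPolynomial (Fin m) A →ₐ[A] T :=
    (IsScalarTower.toAlgHom A P₂ T).comp (Ideal.Quotient.mkₐ A (rel f ^ 2))
  let mk₁ : MvPolynomial (Fin m) A →ₐ[A] B :=
    (IsScalarTower.toAlgHom A (Pres f) B).comp (Ideal.Quotient.mkₐ A (rel f))
  have hmk : ∀ p, π (mk₂ p) = mk₁ p := fun p => (hπ _).trans rfl
  let ε : Fin m → T := fun i => s (mk₁ (X i)) - mk₂ (X i)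
  have hε : ∀ i, π (ε i) = 0 := fun i => by simp only [ε, map_sub, hs, hmk, sub_self]
  choose k p hp hpe using fun i => hker (ε i) (hε i)
  let K := ∑ i, k i
  let G : Fin m → MvPolynomial (Fin m) A := fun i => C a ^ (K - k i) * p i
  have hGe : ∀ i, algebraMap P₂ T (algebraMap A P₂ a) ^ K * ε i = mk₂ (G i) := by
    intro i
    have hle : k i ≤ K := Finset.single_le_sum (fun _ _ => Nat.zero_le _) (Finset.mem_univ i)
    conv_lhs => rw [show K = (K - k i) + k i by omega, pow_add, mul_assoc, hpe i]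
    simp only [G, map_mul, map_pow]
    rfl
  have hzero : ∀ j, mk₂ (C (a ^ K) * f j + ∑ i, pderiv i (f j) * G i) = 0 := by
    intro j
    have h1 := (GreenbergLib.taylor_mem (RingHom.ker (π : T →+* B)) (fun i => mk₂ (X i)) ε hε (f j)).2
    rw [hsq, Ideal.mem_bot] at h1
    have hev : ∀ q, aeval (fun i => mk₂ (X i)) q = mk₂ q := fun q => congr($((aeval_unique mk₂).symm) q)
    have hev' : aeval ((fun i => mk₂ (X i)) + ε) (f j) = 0 := by
      have h2 : ((fun i => mk₂ (X i)) + ε) = fun i => (s.comp mk₁) (X i) := funext fun i => by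
        simp [ε]
      rw [h2]
      refine (congr($((aeval_unique (s.comp mk₁)).symm) (f j))).trans ?_
      show s (mk₁ (f j)) = 0
      rw [show mk₁ (f j) = 0 from by
        show algebraMap (Pres f) B (Ideal.Quotient.mk _ (f j)) = 0
        rw [Ideal.Quotient.eq_zero_iff_mem.2 (show f j ∈ rel f from Ideal.subset_span ⟨j, rfl⟩), map_zero], map_zero]
    simp only [hev, hev', zero_sub] at h1
    have hC : mk₂ (C (a ^ K)) = algebraMap P₂ T (algebraMap A P₂ a) ^ K := by
      rw [map_pow C, map_pow mk₂]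
      rfl
    rw [map_add, map_mul, map_sum, hC]
    simp only [map_mul, ← hGe]
    rw [show ∑ i, mk₂ (pderiv i (f j)) * (algebraMap P₂ T (algebraMap A P₂ a) ^ K * ε i) =
      algebraMap P₂ T (algebraMap A P₂ a) ^ K * ∑ i, mk₂ (pderiv i (f j)) * ε i by
        rw [Finset.mul_sum]; exact Finset.sum_congr rfl fun i _ => by ring, ← mul_add]
    rw [show mk₂ (f j) + ∑ i, mk₂ (pderiv i (f j)) * ε i = 0 by linear_combination -h1, mul_zero]
  have hex : ∀ j, ∃ l, C a ^ l * (C (a ^ K) * f j + ∑ i, pderiv i (f j) * G i) ∈ rel f ^ 2 := by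
    intro j
    obtain ⟨⟨_, l, rfl⟩, hl⟩ :=
      (IsLocalization.map_eq_zero_iff (Submonoid.powers (algebraMap A P₂ a)) T _).1 (hzero j)
    refine ⟨l, Ideal.Quotient.eq_zero_iff_mem.1 ?_⟩
    rw [map_mul, map_pow]
    exact hl
  choose l hl using hex
  let L := ∑ j, l j
  refine ⟨L + K, fun i => C a ^ L * G i, fun i => Ideal.mul_mem_left _ _ (Ideal.mul_mem_left _ _ (hp i)), fun j => ?_⟩
  have hle : l j ≤ L := Finset.single_le_sum (fun _ _ => Nat.zero_le _) (Finset.mem_univ j)
  have h := Ideal.mul_mem_left (rel f ^ 2) (C a ^ (L - l j)) (hl j)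
  rw [← mul_assoc, ← pow_add, Nat.sub_add_cancel hle, mul_add, Finset.mul_sum] at h
  rw [pow_add, map_mul, map_pow C a L, mul_assoc]
  refine (congrArg (fun t => C a ^ L * (C (a ^ K) * f j) + t ∈ rel f ^ 2) (Finset.sum_congr rfl fun i _ => ?_)).mpr h
  ring

omit [Algebra.Etale A (Localization.Away (algebraMap A (Pres f) a))] in
/-- The rows of the Jacobian span the linear parts. -/
theorem linear_part_mem {B : Type u} [CommRing B] (D : Fin r → Fin m → B) {p : MvPolynomial (Fin m) B}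
    (hp : p ∈ Ideal.span (Set.range fun j => ∑ k, C (D j k) * X k) ⊔
      Ideal.span (Set.range (X : Fin m → MvPolynomial (Fin m) B)) ^ 2) :
    (fun k => eval (fun _ => 0) (pderiv k p)) ∈ Submodule.span B (Set.range D) := by
  classical
  obtain ⟨x, hx, y, hy, rfl⟩ := Submodule.mem_sup.1 hp
  have h1 : (fun k => eval (fun _ => (0 : B)) (pderiv k (x + y))) =
      fun k => eval (fun _ => (0 : B)) (pderiv k x) := funext fun k => by
    rw [map_add, map_add, eval_zero_pderiv_of_mem_sq hy k, add_zero]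
  rw [h1]
  clear hy h1 hp
  suffices h : eval (fun _ => (0 : B)) x = 0 ∧
      (fun k => eval (fun _ => (0 : B)) (pderiv k x)) ∈ Submodule.span B (Set.range D) from h.2
  induction hx using Submodule.span_induction with
  | mem x hx =>
    obtain ⟨j, rfl⟩ := hx
    refine ⟨by simp, ?_⟩
    have : (fun k => eval (fun _ => (0 : B)) (pderiv k (∑ l, C (D j l) * X l))) = D j := funext fun k => by
      simp only [map_sum, pderiv_mul, pderiv_C, pderiv_X, zero_mul, zero_add, map_mul, eval_C]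
      rw [Finset.sum_eq_single k (fun l _ hl => by simp [Pi.single_eq_of_ne hl]) (by simp)]
      simp
    rw [this]
    exact Submodule.subset_span ⟨j, rfl⟩
  | zero => exact ⟨map_zero _, by simp only [map_zero]; exact zero_mem _⟩
  | add x y _ _ hx hy =>
    refine ⟨by rw [map_add, hx.1, hy.1, add_zero], ?_⟩
    simp only [map_add]
    exact add_mem hx.2 hy.2
  | smul b x _ hx =>
    refine ⟨by rw [smul_eq_mul, map_mul, hx.1, mul_zero], ?_⟩
    have : (fun k => eval (fun _ => (0 : B)) (pderiv k (b • x))) =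
        eval (fun _ => (0 : B)) b • fun k => eval (fun _ => (0 : B)) (pderiv k x) := funext fun k => by
      rw [smul_eq_mul, pderiv_mul, map_add, map_mul, map_mul, hx.1, mul_zero, zero_add]
      rfl
    rw [this]
    exact Submodule.smul_mem _ _ hx.2

omit [Algebra.Etale A (Localization.Away (algebraMap A (Pres f) a))] in
theorem exists_inverse_aux {B₀ : Type u} [CommRing B₀] [Algebra A B₀] (mk : MvPolynomial (Fin m) A →ₐ[A] B₀)
    (hsurj : Function.Surjective mk) (hker : ∀ p, mk p = 0 ↔ p ∈ rel f)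
    [Algebra.FormallyUnramified A (Localization.Away (algebraMap A B₀ a))] :
    ∃ (k : ℕ) (U : Fin m → Fin r → MvPolynomial (Fin m) A),
      ∀ i l, (if i = l then C (a ^ k) else 0) - ∑ j, U i j * pderiv l (f j) ∈ rel f := by
  classical
  let D : Fin r → Fin m → B₀ := fun j k => mk (pderiv k (f j))
  let L : Ideal (MvPolynomial (Fin m) B₀) := Ideal.span (Set.range fun j => ∑ k, C (D j k) * X k) ⊔
      Ideal.span (Set.range (X : Fin m → MvPolynomial (Fin m) B₀)) ^ 2
  let S' := MvPolynomial (Fin m) B₀ ⧸ L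
  let T := Localization.Away (algebraMap A S' a)
  let B := Localization.Away (algebraMap A B₀ a)
  let q₁ : B₀ →ₐ[A] T := (IsScalarTower.toAlgHom A S' T).comp
    ((Ideal.Quotient.mkₐ A L).comp (IsScalarTower.toAlgHom A B₀ (MvPolynomial (Fin m) B₀)))
  let xs : Fin m → T := fun i => algebraMap S' T (Ideal.Quotient.mk L (X i))
  let K : Ideal T := Ideal.span (Set.range xs)
  have hK2 : K ^ 2 = ⊥ := by
    rw [eq_bot_iff, pow_two, Ideal.span_mul_span', Ideal.span_le]
    rintro _ ⟨_, ⟨i, rfl⟩, _, ⟨j, rfl⟩, rfl⟩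
    show xs i * xs j = 0
    rw [← map_mul, ← map_mul, Ideal.Quotient.eq_zero_iff_mem.2 (Ideal.mem_sup_right ?_), map_zero]
    rw [pow_two]
    exact Ideal.mul_mem_mul (Ideal.subset_span ⟨i, rfl⟩) (Ideal.subset_span ⟨j, rfl⟩)
  let g : MvPolynomial (Fin m) A →ₐ[A] T := aeval ((fun i => q₁ (mk (X i))) + xs)
  have hev : ∀ p, aeval (fun i => q₁ (mk (X i))) p = q₁ (mk p) := fun p =>
    congr($((aeval_unique (q₁.comp mk)).symm) p)
  have hg : ∀ p ∈ rel f, g p = 0 := by
    intro p hp
    refine (Ideal.span_le.2 ?_ : rel f ≤ RingHom.ker g) hp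
    rintro _ ⟨j, rfl⟩
    have h1 := (GreenbergLib.taylor_mem K (fun i => q₁ (mk (X i))) xs (fun i => Ideal.subset_span ⟨i, rfl⟩) (f j)).2
    rw [hK2, Ideal.mem_bot] at h1
    simp only [hev] at h1
    have h0 : mk (f j) = 0 := (hker _).2 (Ideal.subset_span ⟨j, rfl⟩)
    have h2 : ∑ i, q₁ (mk (pderiv i (f j))) * xs i = 0 := by
      have : algebraMap S' T (Ideal.Quotient.mk L (∑ k, C (D j k) * X k)) = 0 := by
        rw [Ideal.Quotient.eq_zero_iff_mem.2 (show (∑ k, C (D j k) * X k) ∈ L from Ideal.mem_sup_left (Ideal.subset_span ⟨j, rfl⟩)), map_zero]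
      simp only [map_sum, map_mul] at this
      exact this
    rw [h0, map_zero, h2, sub_zero, sub_zero] at h1
    exact h1
  have hker' : RingHom.ker mk ≤ RingHom.ker g := fun p hp => hg p ((hker p).1 hp)
  let q₂ : B₀ →ₐ[A] T := AlgHom.liftOfSurjective mk hsurj g hker'
  have hu : ∀ q : B₀ →ₐ[A] T, IsUnit (q (algebraMap A B₀ a)) := fun q => by
    rw [AlgHom.commutes, IsScalarTower.algebraMap_apply A S' T]
    exact IsLocalization.Away.algebraMap_isUnit _
  let g₁ : B →ₐ[A] T := IsLocalization.Away.liftAlgHom (algebraMap A B₀ a) (hu q₁)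
  let g₂ : B →ₐ[A] T := IsLocalization.Away.liftAlgHom (algebraMap A B₀ a) (hu q₂)
  have hq : ∀ i, q₂ (mk (X i)) = q₁ (mk (X i)) + xs i := fun i => by
    have h1 : q₂ (mk (X i)) = g (X i) := by
      exact AlgHom.congr_fun (AlgHom.liftOfSurjective_comp mk hsurj g hker') (X i)
    rw [h1]
    simp [g]
  have heq : g₁ = g₂ := by
    refine Algebra.FormallyUnramified.ext K ⟨2, by rw [hK2, Ideal.zero_eq_bot]⟩ fun b => ?_
    have : (Ideal.Quotient.mkₐ A K).comp g₁ = (Ideal.Quotient.mkₐ A K).comp g₂ := by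
      refine IsLocalization.algHom_ext (Submonoid.powers (algebraMap A B₀ a)) ?_
      refine (AlgHom.cancel_right hsurj).1 (MvPolynomial.algHom_ext fun i => ?_)
      show Ideal.Quotient.mk K (g₁ (algebraMap B₀ B (mk (X i)))) = Ideal.Quotient.mk K (g₂ (algebraMap B₀ B (mk (X i))))
      simp only [g₁, g₂, IsLocalization.Away.liftAlgHom_apply, IsLocalization.Away.lift_eq]
      rw [Ideal.Quotient.eq]
      show q₁ (mk (X i)) - q₂ (mk (X i)) ∈ K
      rw [hq, sub_add_cancel_left]
      exact neg_mem (Ideal.subset_span ⟨i, rfl⟩)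
    exact congr($this b)
  have hxs : ∀ i, xs i = 0 := by
    intro i
    have h := congr($heq (algebraMap B₀ B (mk (X i))))
    simp only [g₁, g₂, IsLocalization.Away.liftAlgHom_apply, IsLocalization.Away.lift_eq] at h
    change q₁ (mk (X i)) = q₂ (mk (X i)) at h
    rw [hq] at h
    linear_combination -h
  have hex : ∀ i, ∃ k, (algebraMap A B₀ a) ^ k • (Pi.single i 1 : Fin m → B₀) ∈ Submodule.span B₀ (Set.range D) := by
    intro i
    obtain ⟨⟨_, k, rfl⟩, hk⟩ :=
      (IsLocalization.map_eq_zero_iff (Submonoid.powers (algebraMap A S' a)) T _).1 (hxs i)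
    refine ⟨k, ?_⟩
    have hmem : C (algebraMap A B₀ a) ^ k * X i ∈ L := by
      refine Ideal.Quotient.eq_zero_iff_mem.1 ?_
      rw [map_mul, map_pow]
      exact hk
    have h := linear_part_mem D hmem
    have : (fun l => eval (fun _ => (0 : B₀)) (pderiv l (C (algebraMap A B₀ a) ^ k * X i))) =
        (algebraMap A B₀ a) ^ k • (Pi.single i 1 : Fin m → B₀) := funext fun l => by
      rw [← map_pow, pderiv_mul, pderiv_C, zero_mul, zero_add, map_mul, eval_C, pderiv_X, Pi.smul_apply, smul_eq_mul]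
      simp [Pi.single_apply, eq_comm]
    rwa [this] at h
  choose k hk using hex
  let K₀ := ∑ i, k i
  have hU : ∀ i, ∃ U : Fin r → MvPolynomial (Fin m) A,
      ∑ j, mk (U j) • D j = (algebraMap A B₀ a) ^ K₀ • (Pi.single i 1 : Fin m → B₀) := by
    intro i
    have hle : k i ≤ K₀ := Finset.single_le_sum (fun _ _ => Nat.zero_le _) (Finset.mem_univ i)
    have h := Submodule.smul_mem _ ((algebraMap A B₀ a) ^ (K₀ - k i)) (hk i)
    rw [smul_smul, ← pow_add, Nat.sub_add_cancel hle] at h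
    obtain ⟨c, hc⟩ := (Submodule.mem_span_range_iff_exists_fun B₀).1 h
    choose U hU using fun j => hsurj (c j)
    exact ⟨U, by simp only [← hc, ← hU]⟩
  choose U hU using hU
  refine ⟨K₀, U, fun i l => (hker _).1 ?_⟩
  have h := congrFun (hU i) l
  simp only [Finset.sum_apply, Pi.smul_apply, smul_eq_mul, Pi.single_apply] at h
  rw [map_sub, map_sum]
  simp only [map_mul, D] at h ⊢
  rw [h, apply_ite mk, map_zero, map_pow C, map_pow mk, show mk (C a) = algebraMap A B₀ a from mk.commutes a]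
  by_cases hil : i = l
  · simp [hil]
  · simp [hil, Ne.symm hil]

theorem exists_inverse :
    ∃ (k : ℕ) (U : Fin m → Fin r → MvPolynomial (Fin m) A),
      ∀ i l, (if i = l then C (a ^ k) else 0) - ∑ j, U i j * pderiv l (f j) ∈ rel f :=
  exists_inverse_aux f a (Ideal.Quotient.mkₐ A (rel f)) Ideal.Quotient.mk_surjective
    fun _ => Ideal.Quotient.eq_zero_iff_mem

theorem exists_good : ∃ c, Good f (a ^ c) := by
  classical
  obtain ⟨k, U₀, hU₀⟩ := exists_inverse f a
  obtain ⟨k', G₀, hG₀, hf₀⟩ := exists_newton_step f a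
  let M := k + k'
  let e : MvPolynomial (Fin m) A := C (a ^ M)
  let U : Fin m → Fin r → MvPolynomial (Fin m) A := fun i j => C (a ^ k') * U₀ i j
  let G : Fin m → MvPolynomial (Fin m) A := fun i => C (a ^ k) * G₀ i
  have hU : ∀ i l, (if i = l then e else 0) - ∑ j, U i j * pderiv l (f j) ∈ rel f := by
    intro i l
    have := Ideal.mul_mem_left (rel f) (C (a ^ k')) (hU₀ i l)
    rw [mul_sub, Finset.mul_sum, mul_ite, mul_zero, ← map_mul, ← pow_add, add_comm k'] at this
    simp only [U, mul_assoc]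
    exact this
  have hf : ∀ j, e * f j + ∑ i, pderiv i (f j) * G i ∈ rel f ^ 2 := by
    intro j
    have := Ideal.mul_mem_left (rel f ^ 2) (C (a ^ k)) (hf₀ j)
    rw [mul_add, ← mul_assoc, ← map_mul, ← pow_add, Finset.mul_sum] at this
    refine (congrArg (fun t => e * f j + t ∈ rel f ^ 2) (Finset.sum_congr rfl fun i _ => ?_)).mpr this
    simp only [G]; ring
  have hG : ∀ i, G i ∈ rel f := fun i => Ideal.mul_mem_left _ _ (hG₀ i)
  let g : Fin m → MvPolynomial (Fin m) A := fun i => ∑ j, U i j * f j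
  have hgG : ∀ i, e * g i + e * G i ∈ rel f ^ 2 := by
    intro i
    have h1 : ∑ j, U i j * (e * f j + ∑ l, pderiv l (f j) * G l) ∈ rel f ^ 2 :=
      sum_mem fun j _ => Ideal.mul_mem_left _ _ (hf j)
    have h2 : ∑ l, ((if i = l then e else 0) - ∑ j, U i j * pderiv l (f j)) * G l ∈ rel f ^ 2 :=
      sum_mem fun l _ => by rw [pow_two]; exact Ideal.mul_mem_mul (hU i l) (hG l)
    have h3 := add_mem h1 h2
    have e1 : e * g i + e * G i = ∑ j, U i j * (e * f j + ∑ l, pderiv l (f j) * G l) +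
        ∑ l, ((if i = l then e else 0) - ∑ j, U i j * pderiv l (f j)) * G l := by
      simp only [g, sub_mul, Finset.sum_sub_distrib, mul_add, Finset.sum_add_distrib, Finset.mul_sum, Finset.sum_mul,
        ite_mul, zero_mul, Finset.sum_ite_eq, Finset.mem_univ, if_true]
      rw [Finset.sum_comm]
      have e2 : ∑ x : Fin m, ∑ y : Fin r, U i y * (pderiv x (f y) * G x) =
          ∑ x : Fin m, ∑ y : Fin r, U i y * pderiv x (f y) * G x :=
        Finset.sum_congr rfl fun _ _ => Finset.sum_congr rfl fun _ _ => (mul_assoc _ _ _).symm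
      rw [e2]
      have e3 : ∑ x : Fin r, U i x * (e * f x) = ∑ x : Fin r, e * (U i x * f x) :=
        Finset.sum_congr rfl fun _ _ => by ring
      rw [e3]; ring
    rwa [e1]
  refine ⟨M, U, hU, fun j => ?_⟩
  have h1 : e * (e * f j + ∑ i, pderiv i (f j) * G i) - ∑ i, pderiv i (f j) * (e * g i + e * G i) ∈ rel f ^ 2 :=
    sub_mem (Ideal.mul_mem_left _ _ (hf j)) (sum_mem fun i _ => Ideal.mul_mem_left _ _ (hgG i))
  have h2 : e ^ 2 * f j = ∑ i, pderiv i (f j) * e * g i +
      (e * (e * f j + ∑ i, pderiv i (f j) * G i) - ∑ i, pderiv i (f j) * (e * g i + e * G i)) := by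
    simp only [mul_add, Finset.sum_add_distrib, Finset.mul_sum]
    have e4 : ∑ i : Fin m, pderiv i (f j) * (e * G i) = ∑ i : Fin m, e * (pderiv i (f j) * G i) :=
      Finset.sum_congr rfl fun _ _ => by ring
    have e5 : ∑ i : Fin m, pderiv i (f j) * (e * g i) = ∑ i : Fin m, pderiv i (f j) * e * g i :=
      Finset.sum_congr rfl fun _ _ => by ring
    rw [e4, e5]; ring
  show e ^ 2 * f j ∈ _
  rw [h2]
  exact Submodule.add_mem_sup (sum_mem fun i _ => Ideal.mul_mem_left _ _ (Ideal.subset_span ⟨i, rfl⟩)) h1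

end Groth.Agent.H1Elkik
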