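import Groth.Agent.H1Elkik.Approx
import Groth.Agent.S1994
import Groth.Prelude.Def_Hens2

/-!
# Points of algebras étale away from a closed set over henselizations
-/

set_option autoImplicit false
set_option linter.style.haveILetI false

universe u

open MvPolynomial

namespace Groth.Agent.H1Elkik

/-- Transfer of the presentation. -/
theorem exists_good_of_surjective {A : Type u} [CommRing A] {m r : ℕ} (f : Fin r → MvPolynomial (Fin m) A)
    {B : Type u} [CommRing B] [Algebra A B] (π : MvPolynomial (Fin m) A →ₐ[A] B) (hπ : Function.Surjective π)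
    (hker : RingHom.ker π = rel f) (a : A) [Algebra.Etale A (Localization.Away (algebraMap A B a))] :
    ∃ c, Good f (a ^ c) := by
  let e : Pres f ≃ₐ[A] B :=
    (Ideal.quotientEquivAlgOfEq A hker.symm).trans (Ideal.quotientKerAlgEquivOfSurjective hπ)
  have hmap : Submonoid.map e (Submonoid.powers (algebraMap A (Pres f) a)) = Submonoid.powers (algebraMap A B a) := by
    rw [Submonoid.map_powers]
    exact congrArg _ (e.commutes a)
  let e' : Localization.Away (algebraMap A (Pres f) a) ≃ₐ[A] Localization.Away (algebraMap A B a) :=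
    IsLocalization.algEquivOfAlgEquiv _ _ e hmap
  haveI : Algebra.Etale A (Localization.Away (algebraMap A (Pres f) a)) := Algebra.Etale.of_equiv e'.symm
  exact exists_good f a

variable {C : Type u} [CommRing C] [IsNoetherianRing C] (J : Ideal C)
  {Ch : Type u} [CommRing Ch] [Algebra C Ch]

/-- The residue of a point of the completion. -/
def IsRes (n : ℕ) (x : AdicCompletion J C) (c : C) : Prop :=
  AdicCompletion.eval J C n x = Submodule.Quotient.mk c

omit [IsNoetherianRing C] in
theorem exists_isRes (n : ℕ) (x : AdicCompletion J C) : ∃ c, IsRes J n x c := by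
  obtain ⟨c, hc⟩ := Submodule.Quotient.mk_surjective _ (AdicCompletion.eval J C n x)
  exact ⟨c, hc.symm⟩

omit [IsNoetherianRing C] in
theorem IsRes.evalₐ {n : ℕ} {x : AdicCompletion J C} {c : C} (h : IsRes J n x c) :
    AdicCompletion.evalₐ J n x = Ideal.Quotient.mk (J ^ n) c := by
  obtain ⟨d, hd⟩ := Ideal.Quotient.mk_surjective (AdicCompletion.evalₐ J n x)
  have h2 := AdicCompletion.factor_evalₐ_eq_eval J x (n := n) (by simp)
  rw [← hd, h] at h2
  rw [← hd, Ideal.Quotient.eq]
  have h3 : d - c ∈ (J ^ n • (⊤ : Submodule C C)) := (Submodule.Quotient.eq _).1 h2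
  rwa [Ideal.smul_eq_mul, Ideal.mul_top] at h3

omit [IsNoetherianRing C] in
theorem IsRes.of_le {n n' : ℕ} (hn : n ≤ n') {x : AdicCompletion J C} {c : C} (h : IsRes J n' x c) :
    IsRes J n x c := by
  have h1 := AdicCompletion.transitionMap_comp_eval_apply (I := J) (M := C) hn x
  exact (h1.symm.trans (congrArg (AdicCompletion.transitionMap J C hn) h)).trans rfl

omit [IsNoetherianRing C] in
theorem IsRes.sub_mem {n : ℕ} {x : AdicCompletion J C} {c c' : C} (h : IsRes J n x c) (h' : IsRes J n x c') :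
    algebraMap C Ch c - algebraMap C Ch c' ∈ (J.map (algebraMap C Ch)) ^ n := by
  rw [← map_sub, ← Ideal.map_pow]
  exact Ideal.mem_map_of_mem _ (Ideal.Quotient.eq.1 ((IsRes.evalₐ J h).symm.trans (IsRes.evalₐ J h')))

/-- The existence and uniqueness of the point. -/
theorem existsUnique_point {A : Type u} [CommRing A] [IsNoetherianRing A] (I : Ideal A) {B : Type u} [CommRing B]
    [Algebra A B] [Algebra.FiniteType A B] (hB : ∀ a ∈ I, Algebra.Etale A (Localization.Away (algebraMap A B a)))
    [Algebra A C] [Algebra A Ch] [IsScalarTower A C Ch] (hCh : Hens2.IsPairHenselization C (I.map (algebraMap A C)) Ch)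
    (θ : B →ₐ[A] AdicCompletion (I.map (algebraMap A C)) C) :
    ∃! ψ : B →ₐ[A] Ch, ∀ (n : ℕ) (b : B), ∃ c : C,
      ψ b - algebraMap C Ch c ∈ (I.map (algebraMap A Ch)) ^ n ∧ IsRes (I.map (algebraMap A C)) n (θ b) c := by
  classical
  let J := I.map (algebraMap A C)
  let Jh := I.map (algebraMap A Ch)
  have hJh : J.map (algebraMap C Ch) = Jh := by
    rw [Ideal.map_map, ← IsScalarTower.algebraMap_eq]
  obtain ⟨hN, -, -⟩ := Groth.Agent.S1994.result C J Ch hCh
  haveI := hN
  obtain ⟨s, a, ha⟩ := Submodule.fg_iff_exists_fin_generating_family.1 (IsNoetherian.noetherian I)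
  let ah : Fin s → Ch := fun i => algebraMap A Ch (a i)
  have hah : Ideal.span (Set.range ah) = Jh := by
    show _ = I.map (algebraMap A Ch)
    rw [← ha, Ideal.map_span, ← Set.range_comp]
    rfl
  haveI : HenselianRing Ch (Ideal.span (Set.range ah)) := by
    rw [hah, ← hJh]; exact hCh.1
  have hjac : Ideal.span (Set.range ah) ≤ Ideal.jacobson ⊥ := HenselianRing.jac (I := Ideal.span (Set.range ah))
  obtain ⟨m, π, hπ⟩ := Algebra.FiniteType.iff_quotient_mvPolynomial''.1 (inferInstance : Algebra.FiniteType A B)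
  obtain ⟨r, f, hf⟩ := Submodule.fg_iff_exists_fin_generating_family.1 (IsNoetherian.noetherian (RingHom.ker π))
  let F : Fin r → MvPolynomial (Fin m) Ch := fun j => MvPolynomial.map (algebraMap A Ch) (f j)
  have hgood : ∀ i, ∃ c, Good F (ah i ^ c) := fun i => by
    haveI := hB (a i) (ha ▸ Submodule.subset_span ⟨i, rfl⟩)
    obtain ⟨c, hc⟩ := exists_good_of_surjective f π hπ hf.symm (a i)
    refine ⟨c, ?_⟩
    have := hc.map (algebraMap A Ch)
    rwa [map_pow] at this
  -- residues
  choose cc hcc using fun (n : ℕ) (i : Fin m) => exists_isRes J n (θ (π (X i)))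
  have hres : ∀ n p, IsRes J n (θ (π p)) (aeval (cc n) p) := by
    intro n p
    have h1 : AdicCompletion.evalₐ J n (θ (π p)) = Ideal.Quotient.mk (J ^ n) (aeval (cc n) p) := by
      have h2 : ((AdicCompletion.evalₐ J n).restrictScalars A).comp (θ.comp π) =
          (Ideal.Quotient.mkₐ A (J ^ n)).comp (aeval (cc n)) :=
        MvPolynomial.algHom_ext fun i => by
          simpa using IsRes.evalₐ J (hcc n i)
      exact congr($h2 p)
    have h3 := AdicCompletion.factor_evalₐ_eq_eval J (θ (π p)) (n := n) (by simp)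
    rw [h1] at h3
    exact h3.symm
  let ch : ℕ → Fin m → Ch := fun n i => algebraMap C Ch (cc n i)
  have hev : ∀ n p, algebraMap C Ch (aeval (cc n) p) = eval (ch n) (MvPolynomial.map (algebraMap A Ch) p) := by
    intro n p
    rw [← IsScalarTower.toAlgHom_apply A C Ch, ← AlgHom.comp_apply, comp_aeval, aeval_def, eval_map]
    rfl
  have happrox : ∀ n j, eval (ch n) (F j) ∈ Ideal.span (Set.range ah) ^ n := by
    intro n j
    rw [hah, ← hJh]
    have h0 : π (f j) = 0 := by
      have : f j ∈ RingHom.ker π := hf ▸ Submodule.subset_span ⟨j, rfl⟩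
      exact this
    have h1 := hres n (f j)
    rw [h0, map_zero] at h1
    have h2 : IsRes J n (0 : AdicCompletion J C) 0 := (map_zero _).trans (Submodule.Quotient.mk_zero _).symm
    have h3 := IsRes.sub_mem J (Ch := Ch) h1 h2
    rw [map_zero, sub_zero, hev] at h3
    exact h3
  obtain ⟨n₀, hn₀⟩ := root_unique ah hjac F hgood
  have hroot : ∀ n, ∃ y : Fin m → Ch, (∀ j, eval y (F j) = 0) ∧ ∀ i, y i - ch n i ∈ Ideal.span (Set.range ah) ^ n := by
    intro n
    obtain ⟨N, hN⟩ := exists_root s Ch ah F hgood n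
    obtain ⟨y, hy, hyd⟩ := hN (ch (N + n)) fun j => Ideal.pow_le_pow_right (Nat.le_add_right N n) (happrox (N + n) j)
    refine ⟨y, hy, fun i => ?_⟩
    have h1 : ch (N + n) i - ch n i ∈ Ideal.span (Set.range ah) ^ n := by
      rw [hah, ← hJh]
      exact IsRes.sub_mem J ((hcc (N + n) i).of_le J (Nat.le_add_left n N)) (hcc n i)
    have := add_mem (hyd i) h1
    rwa [sub_add_sub_cancel] at this
  obtain ⟨y, hy, hy'⟩ := hroot n₀
  have hynear : ∀ n i, n₀ ≤ n → y i - ch n i ∈ Ideal.span (Set.range ah) ^ n := by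
    intro n i hn
    obtain ⟨z, hz, hz'⟩ := hroot n
    rw [hn₀ y z hy hz fun l => ?_]
    · exact hz' i
    · have h1 : ch n l - ch n₀ l ∈ Ideal.span (Set.range ah) ^ n₀ := by
        rw [hah, ← hJh]
        exact IsRes.sub_mem J ((hcc n l).of_le J hn) (hcc n₀ l)
      have h2 := add_mem (Ideal.pow_le_pow_right hn (hz' l)) h1
      rw [sub_add_sub_cancel] at h2
      have h3 := sub_mem (hy' l) h2
      rwa [sub_sub_sub_cancel_right] at h3
  have hker : RingHom.ker π ≤ RingHom.ker (aeval (R := A) y) := by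
    rw [← hf]
    refine Submodule.span_le.2 ?_
    rintro _ ⟨j, rfl⟩
    rw [SetLike.mem_coe, RingHom.mem_ker, aeval_def, ← eval_map]
    exact hy j
  let ψ : B →ₐ[A] Ch := AlgHom.liftOfSurjective π hπ (aeval y) hker
  refine ⟨ψ, fun n b => ?_, fun ψ' hψ' => ?_⟩
  · obtain ⟨p, rfl⟩ := hπ b
    refine ⟨aeval (cc (n + n₀)) p, ?_, (hres (n + n₀) p).of_le J (Nat.le_add_right n n₀)⟩
    have h1 : ψ (π p) = eval y (MvPolynomial.map (algebraMap A Ch) p) := by
      rw [show ψ (π p) = aeval y p from AlgHom.congr_fun (AlgHom.liftOfSurjective_comp π hπ (aeval y) hker) p,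
        aeval_def, eval_map]
    rw [h1, hev]
    have h2 := (GreenbergLib.taylor_mem (Jh ^ n) (ch (n + n₀)) (y - ch (n + n₀)) (fun i => by
      have h3 := hynear (n + n₀) i (Nat.le_add_left n₀ n)
      rw [hah] at h3
      exact Ideal.pow_le_pow_right (Nat.le_add_right n n₀) h3) (MvPolynomial.map (algebraMap A Ch) p)).1
    rw [add_sub_cancel, MvPolynomial.aeval_eq_eval, MvPolynomial.aeval_eq_eval] at h2
    exact h2
  · refine AlgHom.ext fun b => ?_
    have hmem : ψ' b - ψ b ∈ ⨅ n : ℕ, Jh ^ n := by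
      refine Submodule.mem_iInf _ |>.2 fun n => ?_
      obtain ⟨c, hc, hc'⟩ := hψ' n b
      obtain ⟨p, rfl⟩ := hπ b
      have h1 : ψ (π p) = eval y (MvPolynomial.map (algebraMap A Ch) p) := by
        rw [show ψ (π p) = aeval y p from AlgHom.congr_fun (AlgHom.liftOfSurjective_comp π hπ (aeval y) hker) p,
          aeval_def, eval_map]
      have h2 := (GreenbergLib.taylor_mem (Jh ^ n) (ch (n + n₀)) (y - ch (n + n₀)) (fun i => by
        have h3 := hynear (n + n₀) i (Nat.le_add_left n₀ n)
        rw [hah] at h3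
        exact Ideal.pow_le_pow_right (Nat.le_add_right n n₀) h3) (MvPolynomial.map (algebraMap A Ch) p)).1
      rw [add_sub_cancel, MvPolynomial.aeval_eq_eval, MvPolynomial.aeval_eq_eval, ← hev] at h2
      have h4 := IsRes.sub_mem J (Ch := Ch) hc' ((hres (n + n₀) p).of_le J (Nat.le_add_right n n₀))
      rw [hJh] at h4
      rw [h1]
      have h5 := sub_mem (add_mem hc h4) h2
      rw [sub_add_sub_cancel, sub_sub_sub_cancel_right] at h5
      exact h5
    have hbot := Ideal.iInf_pow_smul_eq_bot_of_le_jacobson (M := Ch) Jh (hah ▸ hjac)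
    simp only [smul_eq_mul, Ideal.mul_top] at hbot
    rw [hbot, Submodule.mem_bot, sub_eq_zero] at hmem
    exact hmem

end Groth.Agent.H1Elkik
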